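import Groth.Agent.FlatLib.QStalk
import Groth.Agent.QCohLib.Support
import Groth.Prelude.Def_CInt
import Mathlib

/-! Injectivity on a schematically dense open of a map out of a torsion-free module. -/

set_option autoImplicit false
set_option backward.isDefEq.respectTransparency false
universe u

open CategoryTheory AlgebraicGeometry TopologicalSpace Opposite

namespace TfInjLib

theorem exists_assPrime_mem {X : Scheme.{u}} (U : X.Opens) (hU : CInt.IsSchematicallyDense U)
    {W : X.Opens} (hW : IsAffineOpen W) {q : Ideal Γ(X, W)} [hqp : q.IsPrime]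
    {t : Γ(X, W)} (ht : q = Submodule.colon (⊥ : Submodule Γ(X, W) Γ(X, W)) {t}) :
    hW.fromSpec ⟨q, hqp⟩ ∈ U := by
  by_contra hyU
  have hzero : X.presheaf.map (homOfLE (inf_le_left : W ⊓ U ≤ W)).op t = 0 := by
    refine TopCat.Presheaf.section_ext X.sheaf (W ⊓ U) _ _ fun w hw => ?_
    change X.presheaf.germ (W ⊓ U) w hw _ = X.presheaf.germ (W ⊓ U) w hw 0
    rw [map_zero]
    refine (TopCat.Presheaf.germ_res_apply X.presheaf (homOfLE (inf_le_left : W ⊓ U ≤ W)) w hw t).trans ?_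
    have hnle : ¬ q ≤ (hW.primeIdealOf ⟨w, hw.1⟩).asIdeal := fun hle => by
      have h1 := ((PrimeSpectrum.le_iff_specializes ⟨q, hqp⟩ (hW.primeIdealOf ⟨w, hw.1⟩)).1 hle).map
        hW.fromSpec.continuous
      rw [hW.fromSpec_primeIdealOf] at h1
      exact hyU (h1.mem_open U.2 hw.2)
    obtain ⟨c, hcq, hcw⟩ := SetLike.not_le_iff_exists.1 hnle
    letI : Algebra Γ(X, W) (X.presheaf.stalk w) := (X.presheaf.germ W w hw.1).hom.toAlgebra
    haveI := hW.isLocalization_stalk ⟨w, hw.1⟩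
    refine (IsLocalization.map_eq_zero_iff (hW.primeIdealOf ⟨w, hw.1⟩).asIdeal.primeCompl
      (X.presheaf.stalk w) t).2 ⟨⟨c, hcw⟩, ?_⟩
    rw [ht, Submodule.mem_colon_singleton, Submodule.mem_bot] at hcq
    exact hcq
  have ht0 : t = 0 := hU W (hzero.trans (map_zero _).symm)
  refine hqp.ne_top ?_
  rw [ht, ht0, eq_top_iff]
  intro b _
  rw [Submodule.mem_colon_singleton, Submodule.mem_bot, smul_zero]

theorem section_eq_zero_of_germ {Z : Scheme.{u}} (G : Z.Modules) {W : Z.Opens} (t : Γ(G, W))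
    (h : ∀ (x : Z) (hx : x ∈ W), G.presheaf.germ W x hx t = 0) : t = 0 :=
  TopCat.Presheaf.section_ext ((QCohLib.toAbF Z).obj G : TopCat.Sheaf AddCommGrpCat _) W t 0
    fun x hx => (h x hx).trans (map_zero _).symm

theorem injective_app {X : Scheme.{u}} [IsLocallyNoetherian X] {F G : X.Modules} [Coh.IsQCoh F]
    (htf : ∀ V : X.affineOpens, Submodule.torsion Γ(X, V.1) (F.val.obj (Opposite.op V.1)) = ⊥)
    (φ : F ⟶ G) (U : X.Opens) (hU : CInt.IsSchematicallyDense U)
    (hφU : ∀ V : X.Opens, V ≤ U → Function.Injective (φ.app V)) (V : X.Opens) :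
    Function.Injective (φ.app V) := by
  refine (injective_iff_map_eq_zero _).2 fun s hs => ?_
  refine section_eq_zero_of_germ F _ fun x hx => ?_
  obtain ⟨W, hW, hxW, hWV⟩ := exists_isAffineOpen_mem_and_subset (show x ∈ V from hx)
  let m : Γ(F, W) := F.presheaf.map (homOfLE hWV).op s
  have hm : φ.app W m = 0 := by
    refine (congr($(φ.mapPresheaf.naturality (homOfLE hWV).op) s)).trans ?_
    change G.presheaf.map (homOfLE hWV).op (φ.app V s) = 0
    rw [hs, map_zero]
  suffices hm0 : m = 0 by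
    refine (TopCat.Presheaf.germ_res_apply F.presheaf (homOfLE hWV) x hxW s).symm.trans ?_
    exact (congrArg (F.presheaf.germ W x hxW) hm0).trans (map_zero _)
  haveI : IsNoetherianRing Γ(X, W) := IsLocallyNoetherian.component_noetherian ⟨W, hW⟩
  let I : Ideal Γ(X, W) := Submodule.colon (⊥ : Submodule Γ(X, W) Γ(F, W)) {m}
  by_contra hne
  have hsub : (I : Set Γ(X, W)) ⊆ ⋃ p ∈ associatedPrimes Γ(X, W) Γ(X, W), p := fun c hc => by
    refine (biUnion_associatedPrimes_eq_compl_regular Γ(X, W) Γ(X, W)).ge fun hreg => hne ?_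
    have hc' : c • m = 0 := by
      rwa [SetLike.mem_coe, Submodule.mem_colon_singleton, Submodule.mem_bot] at hc
    have hmt : m ∈ Submodule.torsion Γ(X, W) (F.val.obj (Opposite.op W)) :=
      ⟨⟨c, mem_nonZeroDivisors_iff_right.2 fun z hz => hreg (show c * z = c * 0 by rw [mul_zero, mul_comm, hz])⟩, hc'⟩
    rw [htf ⟨W, hW⟩] at hmt
    exact hmt
  obtain ⟨q, hq, hle⟩ := (Ideal.subset_union_prime_finite (associatedPrimes.finite Γ(X, W) Γ(X, W)) ⊥ ⊥
    (fun p hp _ _ => hp.isPrime)).mp hsub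
  haveI hqp := hq.isPrime
  obtain ⟨-, t, ht⟩ := isAssociatedPrime_iff.1 hq
  let y : X := hW.fromSpec ⟨q, hqp⟩
  have hyU : y ∈ U := exists_assPrime_mem U hU hW ht
  have hy : y ∈ W := by
    have : hW.fromSpec ⟨q, hqp⟩ ∈ Set.range hW.fromSpec := ⟨_, rfl⟩
    rwa [hW.range_fromSpec] at this
  have hP : hW.primeIdealOf ⟨y, hy⟩ = ⟨q, hqp⟩ :=
    hW.fromSpec.isEmbedding.injective (hW.fromSpec_primeIdealOf _)
  have hres : F.presheaf.map (homOfLE (inf_le_left : W ⊓ U ≤ W)).op m = 0 := by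
    apply hφU (W ⊓ U) inf_le_right
    rw [map_zero]
    refine (congr($(φ.mapPresheaf.naturality (homOfLE (inf_le_left : W ⊓ U ≤ W)).op) m)).trans ?_
    change G.presheaf.map (homOfLE (inf_le_left : W ⊓ U ≤ W)).op (φ.app W m) = 0
    rw [hm, map_zero]
  have hgerm : F.presheaf.germ W y hy m = 0 :=
    (TopCat.Presheaf.germ_res_apply F.presheaf (homOfLE (inf_le_left : W ⊓ U ≤ W)) y ⟨hy, hyU⟩ m).symm.trans
      ((congrArg (F.presheaf.germ (W ⊓ U) y ⟨hy, hyU⟩) hres).trans (map_zero _))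
  letI := Module.compHom (F.presheaf.stalk y) (X.presheaf.germ W y hy).hom
  haveI := FlatLib.isLocalizedModule_germLin F hW hy
  obtain ⟨⟨c, hc⟩, hc0⟩ := (IsLocalizedModule.eq_zero_iff (hW.primeIdealOf ⟨y, hy⟩).asIdeal.primeCompl
    (FlatLib.germLin F hy)).1 (show FlatLib.germLin F hy m = 0 from hgerm)
  refine hc ?_
  rw [hP]
  exact hle (show c ∈ I by rw [Submodule.mem_colon_singleton, Submodule.mem_bot]; exact hc0)

end TfInjLib
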